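import Mathlib

set_option linter.style.haveILetI false
set_option linter.unusedVariables false
set_option linter.unusedSectionVars false
set_option autoImplicit false
set_option backward.isDefEq.respectTransparency.types false
set_option synthInstance.maxHeartbeats 400000
set_option maxHeartbeats 1600000

namespace Groth.Agent.Helper7.FibProd

open IsLocalRing TensorProduct

universe u

/-! helper7: helper7: counting formula for the spectrum of the tensor product of a finite field extension with an artinian local algebra: lengths of the local rings times residue degrees sum to degree times length -/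

/-- the residue degree of a local homomorphism of local rings -/
noncomputable def resDeg {R R' : Type*} [CommRing R] [CommRing R'] [IsLocalRing R] [IsLocalRing R']
    (φ : R →+* R') [IsLocalHom φ] : ℕ :=
  letI := (ResidueField.map φ).toAlgebra
  Module.finrank (ResidueField R) (ResidueField R')

theorem residueMap_bijective_of_surjective {R R' : Type*} [CommRing R] [CommRing R']
    [IsLocalRing R] [IsLocalRing R'] (π : R →+* R') [IsLocalHom π] (hπ : Function.Surjective π) :
    Function.Bijective (ResidueField.map π) := by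
  refine ⟨(ResidueField.map π).injective, ?_⟩
  intro b
  obtain ⟨b', rfl⟩ := residue_surjective b
  obtain ⟨a, rfl⟩ := hπ b'
  exact ⟨residue R a, rfl⟩

/-- residue degrees agree along a commutative square with surjective vertical maps -/
theorem resDeg_sq {R₁ R₂ R₃ R₄ : Type*} [CommRing R₁] [CommRing R₂] [CommRing R₃] [CommRing R₄]
    [IsLocalRing R₁] [IsLocalRing R₂] [IsLocalRing R₃] [IsLocalRing R₄]
    (φ : R₁ →+* R₂) (ψ : R₃ →+* R₄) (π₁ : R₁ →+* R₃) (π₂ : R₂ →+* R₄)
    [IsLocalHom φ] [IsLocalHom ψ] (h₁ : Function.Surjective π₁) (h₂ : Function.Surjective π₂)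
    (hc : π₂.comp φ = ψ.comp π₁) : resDeg φ = resDeg ψ := by
  haveI : IsLocalHom π₁ := IsLocalHom.of_surjective π₁ h₁
  haveI : IsLocalHom π₂ := IsLocalHom.of_surjective π₂ h₂
  let i : ResidueField R₁ ≃+* ResidueField R₃ :=
    RingEquiv.ofBijective (ResidueField.map π₁) (residueMap_bijective_of_surjective π₁ h₁)
  let j : ResidueField R₂ ≃+* ResidueField R₄ :=
    RingEquiv.ofBijective (ResidueField.map π₂) (residueMap_bijective_of_surjective π₂ h₂)
  unfold resDeg
  letI := (ResidueField.map φ).toAlgebra
  letI := (ResidueField.map ψ).toAlgebra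
  apply Algebra.finrank_eq_of_equiv_equiv i j
  apply RingHom.ext
  intro a
  obtain ⟨a', rfl⟩ := residue_surjective a
  show ResidueField.map ψ (ResidueField.map π₁ (residue R₁ a')) =
    ResidueField.map π₂ (ResidueField.map φ (residue R₁ a'))
  rw [ResidueField.map_residue, ResidueField.map_residue, ResidueField.map_residue,
    ResidueField.map_residue]
  have := DFunLike.congr_fun hc a'
  simp only [RingHom.comp_apply] at this
  rw [this]

/-- the length of a quotient by the kernel of a surjection is the length of the target -/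
theorem length_quot_ker {R S : Type*} [CommRing R] [CommRing S] (π : R →+* S)
    (hπ : Function.Surjective π) :
    Module.length R (R ⧸ RingHom.ker π) = Module.length S S := by
  algebraize [π]
  have hsurj : Function.Surjective (Algebra.ofId R S) := hπ
  let a1 := Ideal.quotientKerAlgEquivOfSurjective (f := Algebra.ofId R S) hsurj
  have hker : RingHom.ker (Algebra.ofId R S) = RingHom.ker π := rfl
  have e1 : Module.length R (R ⧸ RingHom.ker π) = Module.length R S := by
    rw [← hker]
    exact a1.toLinearEquiv.length_eq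
  rw [e1]
  exact Module.length_eq_of_surjective hπ

section Count

variable (K L A : Type u) [Field K] [Field L] [CommRing A] [IsLocalRing A] [IsArtinianRing A]
  [Algebra K L] [Algebra K A] [Module.Finite K L]

attribute [local instance] Algebra.TensorProduct.rightAlgebra

theorem finrank_tensor_right : Module.finrank A (L ⊗[K] A) = Module.finrank K L := by
  let e : A ⊗[K] L ≃ₐ[A] L ⊗[K] A := Algebra.TensorProduct.commRight K A L
  rw [← e.toLinearEquiv.finrank_eq]
  exact Module.finrank_baseChange

instance free_tensor_right : Module.Free A (L ⊗[K] A) :=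
  Module.Free.of_equiv (Algebra.TensorProduct.commRight K A L).toLinearEquiv

instance finite_tensor_right : Module.Finite A (L ⊗[K] A) :=
  Module.Finite.equiv (Algebra.TensorProduct.commRight K A L).toLinearEquiv

theorem isArtinianRing_tensor : IsArtinianRing (L ⊗[K] A) :=
  IsArtinianRing.of_finite A (L ⊗[K] A)

end Count

section Main

variable (K L A : Type u) [Field K] [Field L] [CommRing A] [IsLocalRing A] [IsArtinianRing A]
  [Algebra K L] [Algebra K A] [Module.Finite K L]
  (S : PrimeSpectrum (L ⊗[K] A) → Type u) [∀ Q, CommRing (S Q)] [∀ Q, IsLocalRing (S Q)]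
  [∀ Q, Algebra (L ⊗[K] A) (S Q)] [∀ Q, IsLocalization.AtPrime (S Q) Q.asIdeal]
  (ψ : ∀ Q, A →+* S Q)
  (hψ : ∀ Q, ψ Q = (algebraMap (L ⊗[K] A) (S Q)).comp
    (Algebra.TensorProduct.includeRight : A →ₐ[K] L ⊗[K] A).toRingHom)

attribute [local instance] Algebra.TensorProduct.rightAlgebra

omit [IsLocalRing A] in
theorem isNilpotent_of_mem_maximalIdeal [IsLocalRing A] (a : A) (ha : a ∈ maximalIdeal A) :
    IsNilpotent a := by
  obtain ⟨n, hn⟩ := IsArtinianRing.isNilpotent_jacobson_bot (R := A)
  rw [IsLocalRing.jacobson_eq_maximalIdeal ⊥ bot_ne_top] at hn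
  refine ⟨n, ?_⟩
  have h1 : a ^ n ∈ (maximalIdeal A) ^ n := Ideal.pow_mem_pow ha n
  rw [hn] at h1
  exact h1

include hψ in
theorem isLocalHom_ψ (Q : PrimeSpectrum (L ⊗[K] A)) : IsLocalHom (ψ Q) := by
  constructor
  intro a ha
  by_contra hna
  have hmem : a ∈ maximalIdeal A := (mem_maximalIdeal a).mpr hna
  obtain ⟨n, hn⟩ := isNilpotent_of_mem_maximalIdeal A a hmem
  have h1 : IsUnit ((ψ Q a) ^ n) := ha.pow n
  rw [← map_pow, hn, map_zero] at h1
  exact not_isUnit_zero h1

include hψ in
theorem alg_count_enat [∀ Q, IsLocalHom (ψ Q)] [Fintype (PrimeSpectrum (L ⊗[K] A))] :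
    ∑ Q : PrimeSpectrum (L ⊗[K] A), Module.length (S Q) (S Q) * (resDeg (ψ Q) : ℕ∞) =
      (Module.finrank K L : ℕ∞) * Module.length A A := by
  classical
  haveI hart : IsArtinianRing (L ⊗[K] A) := isArtinianRing_tensor K L A
  letI instA : ∀ Q, Algebra A (S Q) := fun Q => (ψ Q).toAlgebra
  haveI tower : ∀ Q, IsScalarTower A (L ⊗[K] A) (S Q) := fun Q =>
    IsScalarTower.of_algebraMap_eq (fun a => by
      show ψ Q a = _
      rw [hψ Q]
      rfl)
  haveI loc : ∀ Q, IsLocalHom (algebraMap A (S Q)) := fun Q =>
    inferInstanceAs (IsLocalHom (ψ Q))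
  let e₀ := PrimeSpectrum.toPiLocalizationEquiv (L ⊗[K] A)
  let e₁ : (Π Q : PrimeSpectrum (L ⊗[K] A), Localization.AtPrime Q.asIdeal) ≃ₐ[L ⊗[K] A]
      (Π Q, S Q) :=
    AlgEquiv.piCongrRight (fun Q => IsLocalization.algEquiv Q.asIdeal.primeCompl _ _)
  let e := e₀.trans e₁
  have hlenB : Module.length A (L ⊗[K] A) = ∑ Q, Module.length A (S Q) := by
    rw [← Module.length_pi_of_fintype]
    exact (e.toLinearEquiv.restrictScalars A).length_eq
  have hQ : ∀ Q, Module.length A (S Q) = Module.length (S Q) (S Q) * (resDeg (ψ Q) : ℕ∞) := by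
    intro Q
    rw [IsLocalRing.length_restrictScalars A (S Q) (S Q)]
    congr 1
    have hsurj : Function.Surjective (algebraMap (L ⊗[K] A) (S Q)) :=
      IsArtinianRing.localization_surjective Q.asIdeal.primeCompl (S Q)
    haveI : Module.Finite A (S Q) :=
      Module.Finite.of_surjective (IsScalarTower.toAlgHom A (L ⊗[K] A) (S Q)).toLinearMap hsurj
    haveI : Module.Finite A (ResidueField (S Q)) :=
      Module.Finite.of_surjective (IsScalarTower.toAlgHom A (S Q) (ResidueField (S Q))).toLinearMap
        residue_surjective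
    haveI : Module.Finite (ResidueField A) (ResidueField (S Q)) :=
      Module.Finite.of_restrictScalars_finite A _ _
    rw [Module.length_eq_finrank]
    congr 1
    unfold resDeg
    letI i2 : Algebra (ResidueField A) (ResidueField (S Q)) := (ResidueField.map (ψ Q)).toAlgebra
    refine @Algebra.finrank_eq_of_equiv_equiv (ResidueField A) (ResidueField (S Q)) _ _
      (IsLocalRing.ResidueField.instAlgebra (R := A) (S := S Q)) (ResidueField A)
      (ResidueField (S Q)) _ _ i2 (RingEquiv.refl _) (RingEquiv.refl _) ?_
    apply RingHom.ext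
    intro a
    obtain ⟨a', rfl⟩ := residue_surjective a
    rfl
  rw [Finset.sum_congr rfl (fun Q _ => (hQ Q).symm), ← hlenB,
    Module.length_of_free_of_finite, finrank_tensor_right]

include hψ in
theorem alg_count [∀ Q, IsLocalHom (ψ Q)] :
    ∑ᶠ Q : PrimeSpectrum (L ⊗[K] A), ((Module.length (S Q) (S Q)).toNat * resDeg (ψ Q) : ℕ) =
      Module.finrank K L * (Module.length A A).toNat := by
  classical
  haveI hart : IsArtinianRing (L ⊗[K] A) := isArtinianRing_tensor K L A
  letI : Fintype (PrimeSpectrum (L ⊗[K] A)) := Fintype.ofFinite _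
  rw [finsum_eq_sum_of_fintype]
  have h := alg_count_enat K L A S ψ hψ
  have hA : Module.length A A ≠ ⊤ := by
    rw [Module.length_ne_top_iff]
    exact (isArtinianRing_iff_isFiniteLength _).mp inferInstance
  have hS : ∀ Q, Module.length (S Q) (S Q) ≠ ⊤ := by
    intro Q
    have hsurj : Function.Surjective (algebraMap (L ⊗[K] A) (S Q)) :=
      IsArtinianRing.localization_surjective Q.asIdeal.primeCompl (S Q)
    haveI : IsArtinianRing (S Q) := hsurj.isArtinianRing
    rw [Module.length_ne_top_iff]
    exact (isArtinianRing_iff_isFiniteLength _).mp inferInstance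
  have h2 : ∀ Q, Module.length (S Q) (S Q) = ((Module.length (S Q) (S Q)).toNat : ℕ∞) :=
    fun Q => (ENat.natCast_toNat (hS Q)).symm
  have h3 : Module.length A A = ((Module.length A A).toNat : ℕ∞) := (ENat.natCast_toNat hA).symm
  rw [h3, Finset.sum_congr rfl (fun Q _ => by rw [h2 Q])] at h
  exact_mod_cast h

include hψ in
theorem resDeg_ψ_pos [∀ Q, IsLocalHom (ψ Q)] (Q : PrimeSpectrum (L ⊗[K] A)) :
    0 < resDeg (ψ Q) := by
  classical
  haveI hart : IsArtinianRing (L ⊗[K] A) := isArtinianRing_tensor K L A
  letI instA : ∀ Q, Algebra A (S Q) := fun Q => (ψ Q).toAlgebra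
  haveI tower : ∀ Q, IsScalarTower A (L ⊗[K] A) (S Q) := fun Q =>
    IsScalarTower.of_algebraMap_eq (fun a => by
      show ψ Q a = _
      rw [hψ Q]
      rfl)
  haveI loc : ∀ Q, IsLocalHom (algebraMap A (S Q)) := fun Q =>
    inferInstanceAs (IsLocalHom (ψ Q))
  have hsurj : Function.Surjective (algebraMap (L ⊗[K] A) (S Q)) :=
    IsArtinianRing.localization_surjective Q.asIdeal.primeCompl (S Q)
  haveI : Module.Finite A (S Q) :=
    Module.Finite.of_surjective (IsScalarTower.toAlgHom A (L ⊗[K] A) (S Q)).toLinearMap hsurj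
  haveI : Module.Finite A (ResidueField (S Q)) :=
    Module.Finite.of_surjective (IsScalarTower.toAlgHom A (S Q) (ResidueField (S Q))).toLinearMap
      residue_surjective
  haveI hfin : Module.Finite (ResidueField A) (ResidueField (S Q)) :=
    Module.Finite.of_restrictScalars_finite A _ _
  have hpos : 0 < Module.finrank (ResidueField A) (ResidueField (S Q)) := Module.finrank_pos
  have heq : Module.finrank (ResidueField A) (ResidueField (S Q)) = resDeg (ψ Q) := by
    unfold resDeg
    letI i2 : Algebra (ResidueField A) (ResidueField (S Q)) := (ResidueField.map (ψ Q)).toAlgebra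
    refine @Algebra.finrank_eq_of_equiv_equiv (ResidueField A) (ResidueField (S Q)) _ _
      (IsLocalRing.ResidueField.instAlgebra (R := A) (S := S Q)) (ResidueField A)
      (ResidueField (S Q)) _ _ i2 (RingEquiv.refl _) (RingEquiv.refl _) ?_
    apply RingHom.ext
    intro a
    obtain ⟨a', rfl⟩ := residue_surjective a
    rfl
  rw [← heq]
  exact hpos

end Main

end Groth.Agent.Helper7.FibProd
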