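import Mathlib

set_option linter.style.haveILetI false
set_option linter.unusedVariables false
set_option linter.unusedSectionVars false
set_option autoImplicit false
set_option backward.isDefEq.respectTransparency.types false
set_option synthInstance.maxHeartbeats 400000
set_option maxHeartbeats 1600000

namespace Groth.Agent.Helper7.FibProd

open CategoryTheory CategoryTheory.Limits AlgebraicGeometry TopologicalSpace Opposite IsLocalRing

universe u

/-! helper7: helper7: stalk maps of morphisms from affine schemes through spectra of local rings, lifting criterion for the kernel of a stalk map, stalks of spectra as localizations -/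

/-- the canonical map from a ring to the stalk of its spectrum at a point -/
noncomputable abbrev toSt (R : CommRingCat.{u}) (Q : Spec R) : R ⟶ (Spec R).presheaf.stalk Q :=
  (Scheme.ΓSpecIso R).inv ≫ (Spec R).presheaf.germ ⊤ Q trivial

/-- the stalk map of a morphism from an affine scheme which factors through the spectrum of a
local ring of the target -/
theorem stalkSpec_spec {Z : Scheme.{u}} {R : CommRingCat.{u}} (m : Spec R ⟶ Z) (z : Z)
    (θ : Z.presheaf.stalk z ⟶ R) (hm : m = Spec.map θ ≫ Z.fromSpecStalk z) (Q : Spec R)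
    (hsp : m Q ⤳ z) :
    Z.presheaf.stalkSpecializes hsp ≫ m.stalkMap Q = θ ≫ toSt R Q := by
  apply Spec.map_injective
  rw [← cancel_mono (Z.fromSpecStalk z), Spec.map_comp, Category.assoc,
    Scheme.SpecMap_stalkSpecializes_fromSpecStalk, Scheme.SpecMap_stalkMap_fromSpecStalk,
    Spec.fromSpecStalk_eq, Spec.map_comp, Category.assoc]
  conv_lhs => rw [hm]
  simp only [toSt, Spec.map_comp, Category.assoc]

/-- a morphism injective on points, through which the spectrum of a quotient of a local ring of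
the target lifts, has stalk kernel contained in the ideal -/
theorem ker_stalkMap_le_of_lift {P X' : Scheme.{u}} (Ψ : P ⟶ X') (hinj : Function.Injective Ψ)
    (z : P) (J : Ideal (X'.presheaf.stalk (Ψ z))) (hJ : J ≠ ⊤)
    (h' : Spec (CommRingCat.of (X'.presheaf.stalk (Ψ z) ⧸ J)) ⟶ P)
    (hh' : h' ≫ Ψ = Spec.map (CommRingCat.ofHom (Ideal.Quotient.mk J)) ≫
      X'.fromSpecStalk (Ψ z)) :
    RingHom.ker (Ψ.stalkMap z).hom ≤ J := by
  classical
  haveI : Nontrivial (X'.presheaf.stalk (Ψ z) ⧸ J) := Ideal.Quotient.nontrivial_iff.mpr hJ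
  haveI : IsLocalRing (X'.presheaf.stalk (Ψ z) ⧸ J) :=
    IsLocalRing.of_surjective' (Ideal.Quotient.mk J) Ideal.Quotient.mk_surjective
  haveI hloc : IsLocalHom (Ideal.Quotient.mk J) :=
    IsLocalHom.of_surjective (Ideal.Quotient.mk J) Ideal.Quotient.mk_surjective
  let RJ : CommRingCat.{u} := CommRingCat.of (X'.presheaf.stalk (Ψ z) ⧸ J)
  let q : X'.presheaf.stalk (Ψ z) ⟶ RJ := CommRingCat.ofHom (Ideal.Quotient.mk J)
  haveI : IsLocalRing RJ := inferInstanceAs (IsLocalRing (X'.presheaf.stalk (Ψ z) ⧸ J))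
  haveI : IsLocalHom q.hom := hloc
  let φ : Spec RJ ⟶ X' := Spec.map q ≫ X'.fromSpecStalk (Ψ z)
  have hh'' : h' ≫ Ψ = φ := hh'
  have hφcp : φ (closedPoint RJ) = Ψ z := by
    show (Spec.map q ≫ X'.fromSpecStalk (Ψ z)) (closedPoint RJ) = _
    rw [Scheme.Hom.comp_apply, Spec_closedPoint, Scheme.fromSpecStalk_closedPoint]
  have hcp : h' (closedPoint RJ) = z := by
    apply hinj
    have e1 : (h' ≫ Ψ) (closedPoint RJ) = φ (closedPoint RJ) := by rw [hh'']
    exact e1.trans hφcp
  intro r hr
  rw [RingHom.mem_ker] at hr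
  obtain ⟨U, hxU, b, rfl⟩ := TopCat.Presheaf.exists_germ_eq X'.presheaf r
  have hφU : φ (closedPoint RJ) ∈ U := by rw [hφcp]; exact hxU
  have h1 := Scheme.germ_stalkClosedPointTo_Spec_fromSpecStalk (X := X') (R := RJ)
    (x := Ψ z) q U hφU
  have h1b := congrArg (fun m => m.hom b) h1
  simp only [CommRingCat.hom_comp, RingHom.comp_apply] at h1b
  have h2 : ∀ (φ' : Spec RJ ⟶ X') (e : φ' = φ) (hU' : φ' (closedPoint RJ) ∈ U),
      (Scheme.stalkClosedPointTo φ').hom ((X'.presheaf.germ U _ hU').hom b) =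
        (Scheme.stalkClosedPointTo φ).hom ((X'.presheaf.germ U _ hφU).hom b) := by
    rintro φ' rfl hU'
    rfl
  have hU' : (h' ≫ Ψ) (closedPoint RJ) ∈ U := by rw [hh'']; exact hφU
  have h3 := h2 (h' ≫ Ψ) hh'' hU'
  have h4 : ∀ (z' : P) (e : z' = z) (hU'' : Ψ z' ∈ U),
      (Ψ.stalkMap z').hom ((X'.presheaf.germ U _ hU'').hom b) = 0 := by
    rintro z' rfl hU''
    exact hr
  have h5 : (Scheme.stalkClosedPointTo (h' ≫ Ψ)).hom
      ((X'.presheaf.germ U _ hU').hom b) = 0 := by
    have h40 := h4 (h' (closedPoint RJ)) hcp hU'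
    have e : (Scheme.stalkClosedPointTo (h' ≫ Ψ)).hom
        ((X'.presheaf.germ U _ hU').hom b) =
        (Scheme.stalkClosedPointTo h').hom
          ((Ψ.stalkMap (h' (closedPoint RJ))).hom
            ((X'.presheaf.germ U _ hU').hom b)) := by
      rw [Scheme.stalkClosedPointTo_comp]
      rfl
    rw [e]
    exact (congrArg (Scheme.stalkClosedPointTo h').hom h40).trans (map_zero _)
  rw [h5] at h3
  rw [← h3] at h1b
  exact Ideal.Quotient.eq_zero_iff_mem.mp h1b.symm

/-- the stalk of the spectrum of a ring at a prime is the localization at that prime -/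
theorem isLocalization_toSt (R : CommRingCat.{u}) (Q : Spec R) :
    @IsLocalization.AtPrime R _ ((Spec R).presheaf.stalk Q) _ (toSt R Q).hom.toAlgebra
      (Q : PrimeSpectrum R).asIdeal _ := by
  letI : Algebra R ((Spec R).presheaf.stalk Q) := (toSt R Q).hom.toAlgebra
  let e0 : Localization.AtPrime (Q : PrimeSpectrum R).asIdeal ≃+* (Spec R).presheaf.stalk Q :=
    (Spec.stalkIso R Q).symm.commRingCatIsoToRingEquiv
  let e : Localization.AtPrime (Q : PrimeSpectrum R).asIdeal ≃ₐ[R] (Spec R).presheaf.stalk Q :=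
    { e0 with
      commutes' := fun r => by
        have h1 := Spec.algebraMap_stalkIso_inv (R := R) Q
        exact congrArg (fun m => m.hom r) h1 }
  exact IsLocalization.isLocalization_of_algEquiv (Q : PrimeSpectrum R).asIdeal.primeCompl e

section StalkEq

variable {Z : Scheme.{u}}

theorem stalkSpecializes_roundtrip {a b : Z} (h : a ⤳ b) (h' : b ⤳ a)
    (t : Z.presheaf.stalk b) :
    (Z.presheaf.stalkSpecializes h').hom ((Z.presheaf.stalkSpecializes h).hom t) = t := by
  have e : Z.presheaf.stalkSpecializes h ≫ Z.presheaf.stalkSpecializes h' = 𝟙 _ := by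
    rw [TopCat.Presheaf.stalkSpecializes_comp]
    exact TopCat.Presheaf.stalkSpecializes_refl _ _
  exact congrArg (fun m => m.hom t) e

theorem stalkSpecializes_mem_maximalIdeal {a b : Z} (h : a ⤳ b) (h' : b ⤳ a)
    (t : Z.presheaf.stalk b) (ht : t ∈ maximalIdeal (Z.presheaf.stalk b)) :
    (Z.presheaf.stalkSpecializes h).hom t ∈ maximalIdeal (Z.presheaf.stalk a) := by
  rw [mem_maximalIdeal, mem_nonunits_iff] at ht ⊢
  intro hu
  apply ht
  have h1 := hu.map (Z.presheaf.stalkSpecializes h').hom
  rwa [stalkSpecializes_roundtrip h h' t] at h1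

theorem stalkSpecializes_comp_roundtrip {a b : Z} (h : a ⤳ b) (h' : b ⤳ a) :
    Z.presheaf.stalkSpecializes h ≫ Z.presheaf.stalkSpecializes h' = 𝟙 _ := by
  rw [TopCat.Presheaf.stalkSpecializes_comp]
  exact TopCat.Presheaf.stalkSpecializes_refl _ _

end StalkEq

end Groth.Agent.Helper7.FibProd
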