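import Mathlib
import Groth.Agent.Lib.Helper7.FibProd.SpecLoc

set_option linter.style.haveILetI false
set_option linter.unusedVariables false
set_option linter.unusedSectionVars false
set_option autoImplicit false
set_option backward.isDefEq.respectTransparency.types false
set_option synthInstance.maxHeartbeats 400000
set_option maxHeartbeats 1600000

namespace Groth.Agent.Helper7.FibProd

open CategoryTheory CategoryTheory.Limits AlgebraicGeometry TopologicalSpace Opposite IsLocalRing
open TensorProduct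

universe u

/-! helper7: helper7: the spectrum of the tensor product of the residue field of a point with the local ring of a fibre maps to the fibre product by a preimmersion; its range and the kernels of its stalk maps -/

variable {X Y Y' : Scheme.{u}} (f : X ⟶ Y) (g : Y' ⟶ Y)

/-- the ideal of the fibre of `g` in the local ring at `y'` -/
noncomputable def fibI (y' : Y') : Ideal (Y'.presheaf.stalk y') :=
  Ideal.map (g.stalkMap y').hom (maximalIdeal (Y.presheaf.stalk (g y')))

/-- the local ring of the fibre -/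
abbrev FibA (y' : Y') : Type u := Y'.presheaf.stalk y' ⧸ fibI g y'

variable (x : X) (y' : Y') (h : f x = g y')

/-- the structure map from the residue field of the base point to the local ring of the fibre -/
noncomputable def kToA : (Y.residueField (f x) : Type u) →+* FibA g y' :=
  Ideal.Quotient.lift (maximalIdeal (Y.presheaf.stalk (f x)))
    ((Ideal.Quotient.mk (fibI g y')).comp ((g.stalkMap y').hom.comp
      (Y.presheaf.stalkSpecializes (specializes_of_eq h.symm)).hom))
    (by
      intro t ht
      exact Ideal.Quotient.eq_zero_iff_mem.mpr (Ideal.mem_map_of_mem _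
        (stalkSpecializes_mem_maximalIdeal (specializes_of_eq h.symm) (specializes_of_eq h) t ht)))

theorem kToA_residue (t : Y.presheaf.stalk (f x)) :
    kToA f g x y' h ((Y.residue (f x)).hom t) =
      Ideal.Quotient.mk (fibI g y') ((g.stalkMap y').hom
        ((Y.presheaf.stalkSpecializes (specializes_of_eq h.symm)).hom t)) := rfl

/-- the map from the spectrum of the local ring of the fibre -/
noncomputable def aMap : Spec (CommRingCat.of (FibA g y')) ⟶ Y' :=
  Spec.map (CommRingCat.ofHom (Ideal.Quotient.mk (fibI g y'))) ≫ Y'.fromSpecStalk y'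

instance : IsPreimmersion (aMap g y') := by
  unfold aMap
  haveI : IsClosedImmersion (Spec.map (CommRingCat.ofHom (Ideal.Quotient.mk (fibI g y')))) :=
    IsClosedImmersion.spec_of_surjective _ Ideal.Quotient.mk_surjective
  infer_instance

section Exists

/-- the tensor product of the residue field of `x` with the local ring of the fibre at `y'` -/
abbrev FibB [Algebra (Y.residueField (f x)) (X.residueField x)]
    [Algebra (Y.residueField (f x)) (FibA g y')] : Type u :=
  (X.residueField x) ⊗[Y.residueField (f x)] (FibA g y')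

variable [Algebra (Y.residueField (f x)) (X.residueField x)]
  [Algebra (Y.residueField (f x)) (FibA g y')]
  (hKL : algebraMap (Y.residueField (f x)) (X.residueField x) = (f.residueFieldMap x).hom)
  (hKA : algebraMap (Y.residueField (f x)) (FibA g y') = kToA f g x y' h)

/-- inclusion of the residue field into the tensor product -/
noncomputable abbrev inclL : X.residueField x ⟶ CommRingCat.of (FibB f g x y') :=
  CommRingCat.ofHom (Algebra.TensorProduct.includeLeftRingHom :
    (X.residueField x) →+* FibB f g x y')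

/-- inclusion of the local ring of the fibre into the tensor product -/
noncomputable abbrev inclR : CommRingCat.of (FibA g y') ⟶ CommRingCat.of (FibB f g x y') :=
  CommRingCat.ofHom (Algebra.TensorProduct.includeRight :
    FibA g y' →ₐ[Y.residueField (f x)] FibB f g x y').toRingHom

include hKL hKA in
theorem exists_Ψ :
    ∃ Ψ : Spec (CommRingCat.of (FibB f g x y')) ⟶ pullback f g,
      IsPreimmersion Ψ ∧
      Ψ ≫ pullback.fst f g = Spec.map (inclL f g x y') ≫ X.fromSpecResidueField x ∧
      Ψ ≫ pullback.snd f g = Spec.map (inclR f g x y') ≫ aMap g y' ∧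
      Set.range Ψ = pullback.fst f g ⁻¹' {x} ∩
        pullback.snd f g ⁻¹' Set.range (aMap g y') := by
  have e₁ : Spec.map (CommRingCat.ofHom (algebraMap (Y.residueField (f x)) (X.residueField x))) ≫
      Y.fromSpecResidueField (f x) = X.fromSpecResidueField x ≫ f := by
    have e : CommRingCat.ofHom (algebraMap (Y.residueField (f x)) (X.residueField x)) =
        f.residueFieldMap x := CommRingCat.hom_ext hKL
    rw [e]
    exact Scheme.Hom.SpecMap_residueFieldMap_fromSpecResidueField f x
  have e₂ : Spec.map (CommRingCat.ofHom (algebraMap (Y.residueField (f x)) (FibA g y'))) ≫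
      Y.fromSpecResidueField (f x) = aMap g y' ≫ g := by
    have e : Y.residue (f x) ≫
        CommRingCat.ofHom (algebraMap (Y.residueField (f x)) (FibA g y')) =
        Y.presheaf.stalkSpecializes (specializes_of_eq h.symm) ≫ g.stalkMap y' ≫
          CommRingCat.ofHom (Ideal.Quotient.mk (fibI g y')) := by
      ext t
      show algebraMap (Y.residueField (f x)) (FibA g y') ((Y.residue (f x)).hom t) = _
      rw [hKA]
      rfl
    have e' : Spec.map (CommRingCat.ofHom (algebraMap (Y.residueField (f x)) (FibA g y'))) ≫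
        Spec.map (Y.residue (f x)) =
        Spec.map (CommRingCat.ofHom (Ideal.Quotient.mk (fibI g y'))) ≫
          Spec.map (g.stalkMap y') ≫
            Spec.map (Y.presheaf.stalkSpecializes (specializes_of_eq h.symm)) := by
      rw [← Spec.map_comp, ← Spec.map_comp, ← Spec.map_comp, Category.assoc]
      exact congrArg Spec.map e
    show Spec.map (CommRingCat.ofHom (algebraMap (Y.residueField (f x)) (FibA g y'))) ≫
      (Spec.map (Y.residue (f x)) ≫ Y.fromSpecStalk (f x)) =
      (Spec.map (CommRingCat.ofHom (Ideal.Quotient.mk (fibI g y'))) ≫ Y'.fromSpecStalk y') ≫ g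
    rw [Category.assoc, ← Scheme.SpecMap_stalkMap_fromSpecStalk,
      ← Scheme.SpecMap_stalkSpecializes_fromSpecStalk (specializes_of_eq h.symm),
      ← Category.assoc, e', Category.assoc, Category.assoc]
  haveI hpre : IsPreimmersion (pullback.map
      (Spec.map (CommRingCat.ofHom (algebraMap (Y.residueField (f x)) (X.residueField x))))
      (Spec.map (CommRingCat.ofHom (algebraMap (Y.residueField (f x)) (FibA g y')))) f g
      (X.fromSpecResidueField x) (aMap g y') (Y.fromSpecResidueField (f x)) e₁ e₂) := by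
    rw [pullback_map_eq_pullbackFstFstIso_inv]
    infer_instance
  refine ⟨(pullbackSpecIso (Y.residueField (f x)) (X.residueField x) (FibA g y')).inv ≫
    pullback.map
      (Spec.map (CommRingCat.ofHom (algebraMap (Y.residueField (f x)) (X.residueField x))))
      (Spec.map (CommRingCat.ofHom (algebraMap (Y.residueField (f x)) (FibA g y')))) f g
      (X.fromSpecResidueField x) (aMap g y') (Y.fromSpecResidueField (f x)) e₁ e₂,
    inferInstance, ?_, ?_, ?_⟩
  · rw [Category.assoc, pullback.lift_fst, ← Category.assoc]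
    congr 1
    exact pullbackSpecIso_inv_fst _ _ _
  · rw [Category.assoc, pullback.lift_snd, ← Category.assoc]
    congr 1
    exact pullbackSpecIso_inv_snd _ _ _
  · have hr : ∀ {P P' Z : Scheme.{u}} (i : P ≅ P') (m : P ⟶ Z),
        Set.range (i.inv ≫ m) = Set.range m := by
      intro P P' Z i m
      ext z
      constructor
      · rintro ⟨w, rfl⟩
        exact ⟨i.inv w, rfl⟩
      · rintro ⟨w, rfl⟩
        refine ⟨i.hom w, ?_⟩
        rw [← Scheme.Hom.comp_apply, Iso.hom_inv_id_assoc]
    rw [hr, Scheme.Pullback.range_map, Scheme.range_fromSpecResidueField]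

end Exists

section PerQ

variable [Algebra (Y.residueField (f x)) (X.residueField x)]
  [Algebra (Y.residueField (f x)) (FibA g y')]
  (hKL : algebraMap (Y.residueField (f x)) (X.residueField x) = (f.residueFieldMap x).hom)
  (hKA : algebraMap (Y.residueField (f x)) (FibA g y') = kToA f g x y' h)
  (Ψ : Spec (CommRingCat.of (FibB f g x y')) ⟶ pullback f g)
  (hΨ₁ : Ψ ≫ pullback.fst f g = Spec.map (inclL f g x y') ≫ X.fromSpecResidueField x)
  (hΨ₂ : Ψ ≫ pullback.snd f g = Spec.map (inclR f g x y') ≫ aMap g y')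
  (Q : Spec (CommRingCat.of (FibB f g x y')))

/-- the map from the local ring at `x` to the tensor product -/
noncomputable abbrev θX : X.presheaf.stalk x ⟶ CommRingCat.of (FibB f g x y') :=
  X.residue x ≫ inclL f g x y'

/-- the map from the local ring at `y'` to the tensor product -/
noncomputable abbrev θY : Y'.presheaf.stalk y' ⟶ CommRingCat.of (FibB f g x y') :=
  CommRingCat.ofHom (Ideal.Quotient.mk (fibI g y')) ≫ inclR f g x y'

include hΨ₁ in
theorem Ψ_fst_eq : Ψ ≫ pullback.fst f g = Spec.map (θX f g x y') ≫ X.fromSpecStalk x := by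
  rw [hΨ₁, Spec.map_comp, Category.assoc]
  rfl

include hΨ₂ in
theorem Ψ_snd_eq : Ψ ≫ pullback.snd f g = Spec.map (θY f g x y') ≫ Y'.fromSpecStalk y' := by
  rw [hΨ₂, Spec.map_comp, Category.assoc]
  rfl

include hΨ₁ in
theorem fst_Ψ : pullback.fst f g (Ψ Q) = x := by
  have e : (Ψ ≫ pullback.fst f g) Q =
      (Spec.map (inclL f g x y') ≫ X.fromSpecResidueField x) Q := by rw [hΨ₁]
  rw [Scheme.Hom.comp_apply, Scheme.Hom.comp_apply, Scheme.fromSpecResidueField_apply] at e
  exact e

include hΨ₂ in
theorem snd_Ψ_specializes : pullback.snd f g (Ψ Q) ⤳ y' := by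
  have e : (Ψ ≫ pullback.snd f g) Q = (Spec.map (θY f g x y') ≫ Y'.fromSpecStalk y') Q := by
    rw [Ψ_snd_eq f g x y' Ψ hΨ₂]
  rw [Scheme.Hom.comp_apply, Scheme.Hom.comp_apply] at e
  have hmem : pullback.snd f g (Ψ Q) ∈ Set.range (Y'.fromSpecStalk y') := ⟨_, e.symm⟩
  rw [Scheme.range_fromSpecStalk] at hmem
  exact hmem

include hΨ₁ in
theorem sq_X (hsp : pullback.fst f g (Ψ Q) ⤳ x) :
    X.presheaf.stalkSpecializes hsp ≫ (pullback.fst f g).stalkMap (Ψ Q) ≫ Ψ.stalkMap Q =
      θX f g x y' ≫ toSt _ Q := by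
  have h1 := stalkSpec_spec (Ψ ≫ pullback.fst f g) x (θX f g x y')
    (Ψ_fst_eq f g x y' Ψ hΨ₁) Q hsp
  rw [Scheme.Hom.stalkMap_comp] at h1
  exact h1

include hΨ₂ in
theorem sq_Y (hsp : pullback.snd f g (Ψ Q) ⤳ y') :
    Y'.presheaf.stalkSpecializes hsp ≫ (pullback.snd f g).stalkMap (Ψ Q) ≫ Ψ.stalkMap Q =
      θY f g x y' ≫ toSt _ Q := by
  have h1 := stalkSpec_spec (Ψ ≫ pullback.snd f g) y' (θY f g x y')
    (Ψ_snd_eq f g x y' Ψ hΨ₂) Q hsp
  rw [Scheme.Hom.stalkMap_comp] at h1
  exact h1

include hΨ₁ in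
theorem map_max_le_ker :
    Ideal.map ((pullback.fst f g).stalkMap (Ψ Q)).hom
      (maximalIdeal (X.presheaf.stalk (pullback.fst f g (Ψ Q)))) ≤
      RingHom.ker (Ψ.stalkMap Q).hom := by
  have hx := fst_Ψ f g x y' Ψ hΨ₁ Q
  have hsp : pullback.fst f g (Ψ Q) ⤳ x := specializes_of_eq hx
  have hsp' : x ⤳ pullback.fst f g (Ψ Q) := specializes_of_eq hx.symm
  rw [Ideal.map_le_iff_le_comap]
  intro t ht
  rw [Ideal.mem_comap, RingHom.mem_ker]
  have ht0 := stalkSpecializes_mem_maximalIdeal hsp' hsp t ht
  have hrt := stalkSpecializes_roundtrip hsp' hsp t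
  have h1 := sq_X f g x y' Ψ hΨ₁ Q hsp
  have h2 := congrArg (fun m => m.hom ((X.presheaf.stalkSpecializes hsp').hom t)) h1
  simp only [CommRingCat.hom_comp, RingHom.comp_apply] at h2
  rw [hrt] at h2
  rw [h2]
  have h3 : (X.residue x).hom ((X.presheaf.stalkSpecializes hsp').hom t) = 0 := by
    exact (IsLocalRing.residue_eq_zero_iff _).mpr ht0
  rw [h3, map_zero, map_zero, map_zero]

include hKL hKA hΨ₁ hΨ₂ in
theorem ker_le_map_max (hinj : Function.Injective Ψ) :
    RingHom.ker (Ψ.stalkMap Q).hom ≤
      Ideal.map ((pullback.fst f g).stalkMap (Ψ Q)).hom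
        (maximalIdeal (X.presheaf.stalk (pullback.fst f g (Ψ Q)))) := by
  classical
  set J := Ideal.map ((pullback.fst f g).stalkMap (Ψ Q)).hom
    (maximalIdeal (X.presheaf.stalk (pullback.fst f g (Ψ Q)))) with hJdef
  by_cases hJt : J = ⊤
  · rw [hJt]
    exact le_top
  have hx := fst_Ψ f g x y' Ψ hΨ₁ Q
  have hspX : pullback.fst f g (Ψ Q) ⤳ x := specializes_of_eq hx
  have hspX' : x ⤳ pullback.fst f g (Ψ Q) := specializes_of_eq hx.symm
  have hspY : pullback.snd f g (Ψ Q) ⤳ y' := snd_Ψ_specializes f g x y' Ψ hΨ₂ Q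
  have hfg : f x ⤳ g y' := specializes_of_eq h
  have hgf : g y' ⤳ f x := specializes_of_eq h.symm
  let qJ : (pullback f g).presheaf.stalk (Ψ Q) ⟶
      CommRingCat.of ((pullback f g).presheaf.stalk (Ψ Q) ⧸ J) :=
    CommRingCat.ofHom (Ideal.Quotient.mk J)
  let ρX : X.presheaf.stalk x ⟶ CommRingCat.of ((pullback f g).presheaf.stalk (Ψ Q) ⧸ J) :=
    X.presheaf.stalkSpecializes hspX ≫ (pullback.fst f g).stalkMap (Ψ Q) ≫ qJ
  let ρY : Y'.presheaf.stalk y' ⟶ CommRingCat.of ((pullback f g).presheaf.stalk (Ψ Q) ⧸ J) :=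
    Y'.presheaf.stalkSpecializes hspY ≫ (pullback.snd f g).stalkMap (Ψ Q) ≫ qJ
  let φ : Spec (CommRingCat.of ((pullback f g).presheaf.stalk (Ψ Q) ⧸ J)) ⟶ pullback f g :=
    Spec.map qJ ≫ (pullback f g).fromSpecStalk (Ψ Q)
  have ha : Spec.map ρX ≫ X.fromSpecStalk x = φ ≫ pullback.fst f g := by
    show Spec.map (X.presheaf.stalkSpecializes hspX ≫
      (pullback.fst f g).stalkMap (Ψ Q) ≫ qJ) ≫ _ = (Spec.map qJ ≫ _) ≫ _
    rw [Spec.map_comp, Spec.map_comp, Category.assoc, Category.assoc, Category.assoc,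
      Scheme.SpecMap_stalkSpecializes_fromSpecStalk, Scheme.SpecMap_stalkMap_fromSpecStalk]
  have hb : Spec.map ρY ≫ Y'.fromSpecStalk y' = φ ≫ pullback.snd f g := by
    show Spec.map (Y'.presheaf.stalkSpecializes hspY ≫
      (pullback.snd f g).stalkMap (Ψ Q) ≫ qJ) ≫ _ = (Spec.map qJ ≫ _) ≫ _
    rw [Spec.map_comp, Spec.map_comp, Category.assoc, Category.assoc, Category.assoc,
      Scheme.SpecMap_stalkSpecializes_fromSpecStalk, Scheme.SpecMap_stalkMap_fromSpecStalk]
  have hc : g.stalkMap y' ≫ ρY = Y.presheaf.stalkSpecializes hfg ≫ f.stalkMap x ≫ ρX := by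
    apply Spec.map_injective
    rw [← cancel_mono (Y.fromSpecStalk (g y'))]
    have hL : Spec.map (g.stalkMap y' ≫ ρY) ≫ Y.fromSpecStalk (g y') =
        φ ≫ pullback.snd f g ≫ g := by
      rw [Spec.map_comp, Category.assoc, Scheme.SpecMap_stalkMap_fromSpecStalk,
        ← Category.assoc, hb, Category.assoc]
    have hR : Spec.map (Y.presheaf.stalkSpecializes hfg ≫ f.stalkMap x ≫ ρX) ≫
        Y.fromSpecStalk (g y') = φ ≫ pullback.fst f g ≫ f := by
      rw [Spec.map_comp, Spec.map_comp, Category.assoc, Category.assoc,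
        Scheme.SpecMap_stalkSpecializes_fromSpecStalk, Scheme.SpecMap_stalkMap_fromSpecStalk,
        ← Category.assoc, ha, Category.assoc]
    rw [hL, hR, pullback.condition]
  have hkillX : ∀ t₀ ∈ maximalIdeal (X.presheaf.stalk x), ρX.hom t₀ = 0 := by
    intro t₀ ht₀
    show Ideal.Quotient.mk J (((pullback.fst f g).stalkMap (Ψ Q)).hom
      ((X.presheaf.stalkSpecializes hspX).hom t₀)) = 0
    exact Ideal.Quotient.eq_zero_iff_mem.mpr (Ideal.mem_map_of_mem _
      (stalkSpecializes_mem_maximalIdeal hspX hspX' t₀ ht₀))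
  have hkillY : ∀ s ∈ fibI g y', ρY.hom s = 0 := by
    have hle : fibI g y' ≤ RingHom.ker ρY.hom := by
      unfold fibI
      rw [Ideal.map_le_iff_le_comap]
      intro t ht
      rw [Ideal.mem_comap, RingHom.mem_ker]
      have h1 := congrArg (fun m => m.hom t) hc
      simp only [CommRingCat.hom_comp, RingHom.comp_apply] at h1
      rw [h1]
      apply hkillX
      have h2 := stalkSpecializes_mem_maximalIdeal hfg hgf t ht
      rw [mem_maximalIdeal, mem_nonunits_iff] at h2 ⊢
      exact fun hu => h2 ((isUnit_map_iff (f.stalkMap x).hom _).mp hu)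
    intro s hs
    exact hle hs
  let βL : (X.residueField x : Type u) →+* ((pullback f g).presheaf.stalk (Ψ Q) ⧸ J) :=
    Ideal.Quotient.lift (maximalIdeal (X.presheaf.stalk x)) ρX.hom hkillX
  let βA : FibA g y' →+* ((pullback f g).presheaf.stalk (Ψ Q) ⧸ J) :=
    Ideal.Quotient.lift (fibI g y') ρY.hom hkillY
  have hβL : ∀ t, βL ((X.residue x).hom t) = ρX.hom t := fun t => rfl
  have hβA : ∀ s, βA (Ideal.Quotient.mk (fibI g y') s) = ρY.hom s := fun s => rfl
  have compat : βL.comp (algebraMap (Y.residueField (f x)) (X.residueField x)) =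
      βA.comp (algebraMap (Y.residueField (f x)) (FibA g y')) := by
    apply RingHom.ext
    intro k
    obtain ⟨t, rfl⟩ := (Y.residue_surjective (f x)) k
    rw [RingHom.comp_apply, RingHom.comp_apply, hKL, hKA, kToA_residue, hβA]
    have e1 : (f.residueFieldMap x).hom ((Y.residue (f x)).hom t) =
        (X.residue x).hom ((f.stalkMap x).hom t) := rfl
    rw [e1, hβL]
    have h1 := congrArg (fun m => m.hom ((Y.presheaf.stalkSpecializes hgf).hom t)) hc
    simp only [CommRingCat.hom_comp, RingHom.comp_apply] at h1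
    rw [stalkSpecializes_roundtrip hgf hfg t] at h1
    exact h1.symm
  letI algKR : Algebra (Y.residueField (f x)) ((pullback f g).presheaf.stalk (Ψ Q) ⧸ J) :=
    (βL.comp (algebraMap (Y.residueField (f x)) (X.residueField x))).toAlgebra
  let βL' : (X.residueField x : Type u) →ₐ[Y.residueField (f x)]
      ((pullback f g).presheaf.stalk (Ψ Q) ⧸ J) :=
    { βL with commutes' := fun k => rfl }
  let βA' : FibA g y' →ₐ[Y.residueField (f x)] ((pullback f g).presheaf.stalk (Ψ Q) ⧸ J) :=
    { βA with commutes' := fun k => (DFunLike.congr_fun compat k).symm }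
  let β : FibB f g x y' →+* ((pullback f g).presheaf.stalk (Ψ Q) ⧸ J) :=
    (Algebra.TensorProduct.productMap βL' βA').toRingHom
  have hβ1 : θX f g x y' ≫ CommRingCat.ofHom β = ρX := by
    ext t
    show β (((X.residue x).hom t) ⊗ₜ 1) = ρX.hom t
    show Algebra.TensorProduct.productMap βL' βA' (((X.residue x).hom t) ⊗ₜ 1) = ρX.hom t
    rw [Algebra.TensorProduct.productMap_apply_tmul, map_one, mul_one]
    exact hβL t
  have hβ2 : θY f g x y' ≫ CommRingCat.ofHom β = ρY := by
    ext s
    show Algebra.TensorProduct.productMap βL' βA' (1 ⊗ₜ (Ideal.Quotient.mk (fibI g y') s)) =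
      ρY.hom s
    rw [Algebra.TensorProduct.productMap_apply_tmul, map_one, one_mul]
    exact hβA s
  let h' : Spec (CommRingCat.of ((pullback f g).presheaf.stalk (Ψ Q) ⧸ J)) ⟶
      Spec (CommRingCat.of (FibB f g x y')) := Spec.map (CommRingCat.ofHom β)
  have hh' : h' ≫ Ψ = φ := by
    apply pullback.hom_ext
    · rw [Category.assoc, Ψ_fst_eq f g x y' Ψ hΨ₁, ← ha, ← Category.assoc, ← Spec.map_comp, hβ1]
    · rw [Category.assoc, Ψ_snd_eq f g x y' Ψ hΨ₂, ← hb, ← Category.assoc, ← Spec.map_comp, hβ2]
  exact ker_stalkMap_le_of_lift Ψ hinj Q J hJt h' hh'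

end PerQ

end Groth.Agent.Helper7.FibProd
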