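import Mathlib
import Groth.Agent.Lib.Helper7.FibProd.Alg
import Groth.Agent.Lib.Helper7.FibProd.Geo

set_option linter.style.haveILetI false
set_option linter.unusedVariables false
set_option linter.unusedSectionVars false
set_option autoImplicit false
set_option backward.isDefEq.respectTransparency.types false
set_option synthInstance.maxHeartbeats 400000
set_option maxHeartbeats 1600000

namespace Groth.Agent.Helper7.FibProd

open CategoryTheory CategoryTheory.Limits AlgebraicGeometry TopologicalSpace Opposite IsLocalRing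
open TensorProduct

universe u

/-! helper7: helper7: counting formula for the points of a fibre product over a pair of points: fibre multiplicities times residue degrees sum to the residue degree times the fibre multiplicity -/

variable {X Y Y' : Scheme.{u}} (f : X ⟶ Y) (g : Y' ⟶ Y)

theorem fibI_le_max (y' : Y') : fibI g y' ≤ maximalIdeal (Y'.presheaf.stalk y') := by
  have hloc : IsLocalHom (g.stalkMap y').hom := inferInstance
  exact ((IsLocalRing.local_hom_TFAE (g.stalkMap y').hom).out 0 2).mp hloc

theorem fibI_ne_top (y' : Y') : fibI g y' ≠ ⊤ := fun h =>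
  (maximalIdeal.isMaximal _).ne_top (top_le_iff.mp (h ▸ fibI_le_max g y'))

instance (y' : Y') : Nontrivial (FibA g y') :=
  Ideal.Quotient.nontrivial_iff.mpr (fibI_ne_top g y')

instance (y' : Y') : IsLocalRing (FibA g y') :=
  IsLocalRing.of_surjective' (Ideal.Quotient.mk (fibI g y')) Ideal.Quotient.mk_surjective

/-- the local ring of the fibre at a point which is generic in its fibre is zero dimensional -/
theorem krullDimLE_zero_fibA (y' : Y') (hmax : ∀ z, g z = g y' → z ⤳ y' → z = y') :
    Ring.KrullDimLE 0 (FibA g y') := by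
  set φ := (g.stalkMap y').hom with hφ
  have hI : fibI g y' ≤ maximalIdeal (Y'.presheaf.stalk y') := fibI_le_max g y'
  rw [Ring.krullDimLE_zero_iff]
  intro Q hQ
  set q := Q.comap (Ideal.Quotient.mk (fibI g y')) with hq
  haveI hqp : q.IsPrime := Ideal.comap_isPrime _ _
  have hIq : fibI g y' ≤ q := by
    intro a ha
    rw [hq, Ideal.mem_comap, Ideal.Quotient.eq_zero_iff_mem.mpr ha]
    exact Q.zero_mem
  let P : PrimeSpectrum (Y'.presheaf.stalk y') := ⟨q, hqp⟩
  have hsp : (Y'.fromSpecStalk y') P ⤳ y' := by
    have : (Y'.fromSpecStalk y') P ∈ Set.range (Y'.fromSpecStalk y') := Set.mem_range_self P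
    rw [Scheme.range_fromSpecStalk] at this
    exact this
  have hcomap : q.comap φ = maximalIdeal (Y.presheaf.stalk (g y')) := by
    have hle : maximalIdeal (Y.presheaf.stalk (g y')) ≤ q.comap φ :=
      Ideal.map_le_iff_le_comap.mp hIq
    have hpr : (q.comap φ).IsPrime := Ideal.comap_isPrime _ _
    exact ((maximalIdeal.isMaximal _).eq_of_le hpr.ne_top hle).symm
  have hp : g ((Y'.fromSpecStalk y') P) = g y' := by
    have h1 := congrArg (fun m => m P) (congrArg (fun m : Spec (Y'.presheaf.stalk y') ⟶ Y => ⇑m)
      (Scheme.SpecMap_stalkMap_fromSpecStalk (f := g) (x := y')))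
    simp only [Scheme.Hom.comp_apply] at h1
    rw [← h1]
    have h2 : (Spec.map (g.stalkMap y')) P = closedPoint (Y.presheaf.stalk (g y')) := by
      apply PrimeSpectrum.ext
      exact hcomap
    rw [h2, Scheme.fromSpecStalk_closedPoint]
  have heq := hmax _ hp hsp
  have hP : P = closedPoint (Y'.presheaf.stalk y') := by
    apply (Y'.fromSpecStalk y').isEmbedding.injective
    rw [heq, Scheme.fromSpecStalk_closedPoint]
  have hqmax : q = maximalIdeal (Y'.presheaf.stalk y') := congrArg PrimeSpectrum.asIdeal hP
  have hQ' : Q = q.map (Ideal.Quotient.mk (fibI g y')) :=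
    (Ideal.map_comap_of_surjective _ Ideal.Quotient.mk_surjective Q).symm
  rcases Ideal.map_eq_top_or_isMaximal_of_surjective (Ideal.Quotient.mk (fibI g y'))
    Ideal.Quotient.mk_surjective (hqmax ▸ maximalIdeal.isMaximal _ : q.IsMaximal) with h | h
  · exact absurd (hQ' ▸ h) hQ.ne_top
  · exact hQ' ▸ h

theorem isArtinianRing_fibA [IsLocallyNoetherian Y'] (y' : Y')
    (hmax : ∀ z, g z = g y' → z ⤳ y' → z = y') : IsArtinianRing (FibA g y') := by
  haveI := krullDimLE_zero_fibA g y' hmax
  exact isArtinianRing_iff_krullDimLE_zero.mpr inferInstance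

/-- the spectrum of an artinian local ring of the fibre maps to the single point `y'` -/
theorem range_aMap (y' : Y') [IsArtinianRing (FibA g y')] :
    Set.range (aMap g y') = {y'} := by
  have hpt : ∀ P : Spec (CommRingCat.of (FibA g y')), aMap g y' P = y' := by
    intro P
    have hP : P = closedPoint (FibA g y') := by
      apply PrimeSpectrum.ext
      haveI : (P : PrimeSpectrum (FibA g y')).asIdeal.IsMaximal :=
        IsArtinianRing.isMaximal_of_isPrime _
      exact IsLocalRing.eq_maximalIdeal inferInstance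
    haveI : IsLocalHom (CommRingCat.ofHom (Ideal.Quotient.mk (fibI g y'))).hom :=
      IsLocalHom.of_surjective _ Ideal.Quotient.mk_surjective
    rw [hP]
    show (Spec.map (CommRingCat.ofHom (Ideal.Quotient.mk (fibI g y'))) ≫
      Y'.fromSpecStalk y') (closedPoint (FibA g y')) = y'
    rw [Scheme.Hom.comp_apply]
    have h1 : Spec.map (CommRingCat.ofHom (Ideal.Quotient.mk (fibI g y')))
        (closedPoint (FibA g y')) = closedPoint (Y'.presheaf.stalk y') :=
      Spec_closedPoint (R := Y'.presheaf.stalk y') (S := CommRingCat.of (FibA g y'))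
    rw [h1, Scheme.fromSpecStalk_closedPoint]
  ext z
  constructor
  · rintro ⟨P, rfl⟩
    exact hpt P
  · intro hz
    rw [Set.mem_singleton_iff] at hz
    rw [hz]
    exact ⟨closedPoint (FibA g y'), hpt _⟩

section PerQ

variable (x : X) (y' : Y') (h : f x = g y')
  [Algebra (Y.residueField (f x)) (X.residueField x)]
  [Algebra (Y.residueField (f x)) (FibA g y')]
  (hKL : algebraMap (Y.residueField (f x)) (X.residueField x) = (f.residueFieldMap x).hom)
  (hKA : algebraMap (Y.residueField (f x)) (FibA g y') = kToA f g x y' h)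
  (Ψ : Spec (CommRingCat.of (FibB f g x y')) ⟶ pullback f g) [IsPreimmersion Ψ]
  (hΨ₁ : Ψ ≫ pullback.fst f g = Spec.map (inclL f g x y') ≫ X.fromSpecResidueField x)
  (hΨ₂ : Ψ ≫ pullback.snd f g = Spec.map (inclR f g x y') ≫ aMap g y')
  (Q : Spec (CommRingCat.of (FibB f g x y')))

include hKL hKA hΨ₁ hΨ₂ in
theorem length_Ψ :
    Module.length ((pullback f g).presheaf.stalk (Ψ Q))
      ((pullback f g).presheaf.stalk (Ψ Q) ⧸ Ideal.map ((pullback.fst f g).stalkMap (Ψ Q)).hom
        (maximalIdeal (X.presheaf.stalk (pullback.fst f g (Ψ Q))))) =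
    Module.length ((Spec (CommRingCat.of (FibB f g x y'))).presheaf.stalk Q)
      ((Spec (CommRingCat.of (FibB f g x y'))).presheaf.stalk Q) := by
  have hker : Ideal.map ((pullback.fst f g).stalkMap (Ψ Q)).hom
      (maximalIdeal (X.presheaf.stalk (pullback.fst f g (Ψ Q)))) =
      RingHom.ker (Ψ.stalkMap Q).hom :=
    le_antisymm (map_max_le_ker f g x y' Ψ hΨ₁ Q)
      (ker_le_map_max f g x y' h hKL hKA Ψ hΨ₁ hΨ₂ Q Ψ.isEmbedding.injective)
  rw [hker]
  exact length_quot_ker (Ψ.stalkMap Q).hom (Ψ.stalkMap_surjective Q)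

/-- the structure map from the local ring of the fibre to the stalk of the spectrum -/
noncomputable abbrev ψQ : FibA g y' →+*
    ((Spec (CommRingCat.of (FibB f g x y'))).presheaf.stalk Q : Type u) :=
  (toSt (CommRingCat.of (FibB f g x y')) Q).hom.comp (inclR f g x y').hom

include hΨ₂ in
theorem residueDegree_Ψ (hQy : pullback.snd f g (Ψ Q) = y')
    [IsLocalHom (ψQ f g x y' Q)] :
    (pullback.snd f g).residueDegree (Ψ Q) = resDeg (ψQ f g x y' Q) := by
  have hspY : pullback.snd f g (Ψ Q) ⤳ y' := specializes_of_eq hQy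
  have hspY' : y' ⤳ pullback.snd f g (Ψ Q) := specializes_of_eq hQy.symm
  have h1 : (pullback.snd f g).residueDegree (Ψ Q) =
      resDeg ((pullback.snd f g).stalkMap (Ψ Q)).hom := rfl
  rw [h1]
  apply resDeg_sq _ _ ((Ideal.Quotient.mk (fibI g y')).comp
    (Y'.presheaf.stalkSpecializes hspY').hom) (Ψ.stalkMap Q).hom
  · intro a
    obtain ⟨s, rfl⟩ := Ideal.Quotient.mk_surjective a
    refine ⟨(Y'.presheaf.stalkSpecializes hspY).hom s, ?_⟩
    rw [RingHom.comp_apply, stalkSpecializes_roundtrip hspY hspY' s]
  · exact Ψ.stalkMap_surjective Q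
  · apply RingHom.ext
    intro r
    have h2 := sq_Y f g x y' Ψ hΨ₂ Q hspY
    have h3 := congrArg (fun m => m.hom ((Y'.presheaf.stalkSpecializes hspY').hom r)) h2
    simp only [CommRingCat.hom_comp, RingHom.comp_apply] at h3
    rw [stalkSpecializes_roundtrip hspY' hspY r] at h3
    exact h3

end PerQ

section Key

/-- the points of the fibre product over a pair of points -/
def fibT (x : X) (y' : Y') : Set ↑(pullback f g) :=
  {x' | pullback.fst f g x' = x ∧ pullback.snd f g x' = y'}

/-- the fibre multiplicity of a morphism at a point -/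
noncomputable def fibLen {P Z : Scheme.{u}} (p : P ⟶ Z) (z : P) : ℕ :=
  (Module.length (P.presheaf.stalk z) (P.presheaf.stalk z ⧸ Ideal.map (p.stalkMap z).hom
    (maximalIdeal (Z.presheaf.stalk (p z))))).toNat

/-- the counting formula: lengths and residue degrees over a pair of points, one with finite
residue field extension over the base, the other generic in its fibre -/
theorem key_count [IsLocallyNoetherian Y'] (x : X) (y' : Y') (h : f x = g y')
    (hfin : letI := (f.residueFieldMap x).hom.toAlgebra
      Module.Finite (Y.residueField (f x)) (X.residueField x))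
    (hmax : ∀ z, g z = g y' → z ⤳ y' → z = y') :
    (fibT f g x y').Finite ∧
    (∀ x' ∈ fibT f g x y', (pullback.snd f g).residueDegree x' ≠ 0) ∧
    ∑ᶠ x' ∈ fibT f g x y', (fibLen (pullback.fst f g) x' * (pullback.snd f g).residueDegree x' : ℕ) =
      f.residueDegree x * fibLen g y' := by
  classical
  letI algKL : Algebra (Y.residueField (f x)) (X.residueField x) :=
    (f.residueFieldMap x).hom.toAlgebra
  letI algKA : Algebra (Y.residueField (f x)) (FibA g y') := (kToA f g x y' h).toAlgebra
  have hKL : algebraMap (Y.residueField (f x)) (X.residueField x) =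
      (f.residueFieldMap x).hom := rfl
  have hKA : algebraMap (Y.residueField (f x)) (FibA g y') = kToA f g x y' h := rfl
  haveI : Module.Finite (Y.residueField (f x)) (X.residueField x) := hfin
  haveI hart : IsArtinianRing (FibA g y') := isArtinianRing_fibA g y' hmax
  obtain ⟨Ψ, hpre, hΨ₁, hΨ₂, hrange⟩ := exists_Ψ f g x y' h hKL hKA
  rw [range_aMap] at hrange
  have hT : fibT f g x y' = Set.range Ψ := by
    rw [hrange]
    rfl
  haveI hartB : IsArtinianRing (FibB f g x y') :=
    isArtinianRing_tensor (Y.residueField (f x)) (X.residueField x) (FibA g y')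
  haveI hfinB : Finite (PrimeSpectrum (FibB f g x y')) := inferInstance
  let S : PrimeSpectrum (FibB f g x y') → Type u := fun Q =>
    ((Spec (CommRingCat.of (FibB f g x y'))).presheaf.stalk Q : Type u)
  letI instC : ∀ Q, CommRing (S Q) := fun Q => inferInstance
  haveI instL : ∀ Q, IsLocalRing (S Q) := fun Q =>
    inferInstanceAs (IsLocalRing ((Spec (CommRingCat.of (FibB f g x y'))).presheaf.stalk Q))
  letI instAlg : ∀ Q, Algebra (FibB f g x y') (S Q) := fun Q =>
    (toSt (CommRingCat.of (FibB f g x y')) Q).hom.toAlgebra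
  haveI instLoc : ∀ Q : PrimeSpectrum (FibB f g x y'), IsLocalization.AtPrime (S Q) Q.asIdeal :=
    fun Q => isLocalization_toSt (CommRingCat.of (FibB f g x y')) Q
  let ψ : ∀ Q, FibA g y' →+* S Q := fun Q => ψQ f g x y' Q
  have hψ : ∀ Q, ψ Q = (algebraMap (FibB f g x y') (S Q)).comp
      (Algebra.TensorProduct.includeRight :
        FibA g y' →ₐ[Y.residueField (f x)] FibB f g x y').toRingHom := fun Q => rfl
  haveI instLH : ∀ Q, IsLocalHom (ψ Q) := fun Q =>
    isLocalHom_ψ (Y.residueField (f x)) (X.residueField x) (FibA g y') S ψ hψ Q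
  have hcount := alg_count (Y.residueField (f x)) (X.residueField x) (FibA g y') S ψ hψ
  have hsnd : ∀ Q, pullback.snd f g (Ψ Q) = y' := by
    intro Q
    have hm : Ψ Q ∈ Set.range Ψ := ⟨Q, rfl⟩
    rw [hrange] at hm
    exact hm.2
  refine ⟨?_, ?_, ?_⟩
  · rw [hT]
    exact Set.finite_range Ψ
  · intro x' hx'
    rw [hT] at hx'
    obtain ⟨Q, rfl⟩ := hx'
    haveI : IsLocalHom (ψQ f g x y' Q) := instLH Q
    rw [residueDegree_Ψ f g x y' Ψ hΨ₂ Q (hsnd Q)]
    exact (resDeg_ψ_pos (Y.residueField (f x)) (X.residueField x) (FibA g y') S ψ hψ Q).ne'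
  · rw [hT, finsum_mem_range Ψ.isEmbedding.injective]
    have hA : Module.length (Y'.presheaf.stalk y') (FibA g y') =
        Module.length (FibA g y') (FibA g y') :=
      Module.length_eq_of_surjective Ideal.Quotient.mk_surjective
    have hR : f.residueDegree x * fibLen g y' =
        Module.finrank (Y.residueField (f x)) (X.residueField x) *
          (Module.length (FibA g y') (FibA g y')).toNat := by
      rw [← hA]
      rfl
    rw [hR, ← hcount]
    apply finsum_congr
    intro Q
    haveI : IsLocalHom (ψQ f g x y' Q) := instLH Q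
    rw [residueDegree_Ψ f g x y' Ψ hΨ₂ Q (hsnd Q)]
    unfold fibLen
    rw [length_Ψ f g x y' h hKL hKA Ψ hΨ₁ hΨ₂ Q]

end Key

end Groth.Agent.Helper7.FibProd
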