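import Mathlib
import Groth.Prelude.Def_Cyc
import Groth.Agent.Lib.Helper7.FibProd.Key
import Groth.Agent.Lib.Helper7.CycPull.Main

set_option linter.style.haveILetI false
set_option linter.unusedVariables false
set_option linter.unusedSectionVars false
set_option autoImplicit false
set_option backward.isDefEq.respectTransparency.types false
set_option synthInstance.maxHeartbeats 400000
set_option maxHeartbeats 1600000

namespace Groth.Agent.Helper7.FibProd

open CategoryTheory CategoryTheory.Limits AlgebraicGeometry TopologicalSpace Opposite IsLocalRing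
open Groth.Agent.Lib.Helper4.FibDim1 Groth.Agent.Lib.Helper4.FibDim3
  Groth.Agent.Lib.Helper4.FibDimBC2 Groth.Agent.Lib.Helper4.FibDimComp1
open Groth.Agent.Helper7.CycPull

universe u

/-! helper7: flat pullback of cycles commutes with proper pushforward (S1858, S1941): pointwise base change identity via the fibre product counting formula -/

section BC

theorem finsum_fiberwise' {A B : Type*} (p : A → B) (G : A → ℤ)
    (hG : (Function.support G).Finite) :
    ∑ᶠ b, ∑ᶠ a ∈ p ⁻¹' {b}, G a = ∑ᶠ a, G a := by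
  classical
  have h1 : ∑ᶠ a, G a = ∑ a ∈ hG.toFinset, G a :=
    finsum_eq_sum_of_support_subset _ (by rw [Set.Finite.coe_toFinset])
  have h2 : ∀ b, ∑ᶠ a ∈ p ⁻¹' {b}, G a =
      ∑ a ∈ hG.toFinset.filter (fun a => p a = b), G a := by
    intro b
    apply finsum_mem_eq_sum_of_inter_support_eq
    ext a
    constructor
    · rintro ⟨ha1, ha2⟩
      refine ⟨?_, ha2⟩
      rw [Finset.mem_coe, Finset.mem_filter, Set.Finite.mem_toFinset]
      exact ⟨ha2, ha1⟩
    · rintro ⟨ha1, ha2⟩
      rw [Finset.mem_coe, Finset.mem_filter] at ha1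
      exact ⟨ha1.2, ha2⟩
  rw [h1, finsum_congr h2]
  rw [finsum_eq_sum_of_support_subset (s := hG.toFinset.image p)]
  · exact Finset.sum_fiberwise_of_maps_to (fun a ha => Finset.mem_image_of_mem p ha) G
  · intro b hb
    rw [Function.mem_support] at hb
    obtain ⟨a, ha, hne⟩ := Finset.exists_ne_zero_of_sum_ne_zero hb
    rw [Finset.mem_filter] at ha
    rw [Finset.mem_coe, Finset.mem_image]
    exact ⟨a, ha.1, ha.2⟩

theorem mapCoeff_eq {X Y : Scheme.{u}} (f : X ⟶ Y) (wx : X → ℤ) (wy : Y → ℤ) (x : X) :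
    AlgebraicCycle.mapCoeff f wx wy x = if wx x = wy (f x) then f.residueDegree x else 0 := rfl

variable {X Y Y' : Scheme.{u}} (f : X ⟶ Y) (g : Y' ⟶ Y)

theorem finite_of_delta_eq [LocallyOfFiniteType f] (δX : X → ℤ) (δY : Y → ℤ)
    (hf : Cyc.DeltaCompat f δX δY) (x : X) (h : δX x = δY (f x)) :
    letI := (f.residueFieldMap x).hom.toAlgebra
    Module.Finite (Y.residueField (f x)) (X.residueField x) := by
  letI alg : Algebra (Y.residueField (f x)) (X.residueField x) :=
    (f.residueFieldMap x).hom.toAlgebra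
  obtain ⟨n, hn, hδ⟩ := hf x
  have hn0 : n = 0 := by omega
  subst hn0
  have hn' : Algebra.trdeg (Y.residueField (f x)) (X.residueField x) = ((0 : ℕ) : Cardinal.{u}) :=
    hn
  haveI halg : Algebra.IsAlgebraic (Y.residueField (f x)) (X.residueField x) := by
    rw [← _root_.trdeg_eq_zero_iff, hn']
    exact Nat.cast_zero
  haveI hess : Algebra.EssFiniteType (Y.residueField (f x)) (X.residueField x) :=
    RingHom.EssFiniteType.residueFieldMap (LocallyOfFiniteType.stalkMap f x)
  exact Algebra.finite_of_essFiniteType_of_isAlgebraic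

theorem delta_eq_of_residueDegree_ne_zero (δX : X → ℤ) (δY : Y → ℤ)
    (hf : Cyc.DeltaCompat f δX δY) (x : X) (h : f.residueDegree x ≠ 0) : δX x = δY (f x) := by
  letI alg : Algebra (Y.residueField (f x)) (X.residueField x) :=
    (f.residueFieldMap x).hom.toAlgebra
  obtain ⟨n, hn, hδ⟩ := hf x
  have hn' : Algebra.trdeg (Y.residueField (f x)) (X.residueField x) = (n : Cardinal.{u}) := hn
  have hpos : 0 < Module.finrank (Y.residueField (f x)) (X.residueField x) :=
    Nat.pos_of_ne_zero h
  haveI hfin : Module.Finite (Y.residueField (f x)) (X.residueField x) :=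
    Module.finite_of_finrank_pos hpos
  haveI halg : Algebra.IsAlgebraic (Y.residueField (f x)) (X.residueField x) :=
    Algebra.IsAlgebraic.of_finite _ _
  have h0 : Algebra.trdeg (Y.residueField (f x)) (X.residueField x) = 0 := _root_.trdeg_eq_zero
  rw [h0] at hn'
  have hn0 : n = 0 := by exact_mod_cast hn'.symm
  subst hn0
  simpa using hδ

/-- the pointwise base change identity at a point of the flat side, under the dichotomy
"generic in its fibre with the expected dimension" or "of smaller dimension" -/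
theorem core [IsProper f] [IsLocallyNoetherian Y']
    (δX : X → ℤ) (δY : Y → ℤ) (δY' : Y' → ℤ) (δX' : ↥(pullback f g) → ℤ)
    (hf : Cyc.DeltaCompat f δX δY) (hX' : Cyc.DeltaCompat (pullback.snd f g) δX' δY')
    (c : ℤ) (α : AlgebraicCycle X ℤ) (α' : AlgebraicCycle (pullback f g) ℤ)
    (hα' : ⇑α' = Cyc.pullFun (pullback.fst f g) δX' δX c ⇑α) (y' : Y')
    (hdich : (δY' y' = δY (g y') + c ∧ ∀ z, g z = g y' → z ⤳ y' → z = y') ∨
      δY' y' < δY (g y') + c) :
    (AlgebraicCycle.map (pullback.snd f g) δX' δY' α') y' =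
      Cyc.pullFun g δY' δY c ⇑(AlgebraicCycle.map f δX δY α) y' := by
  classical
  have hfδ : ∀ b : X, δY (f b) ≤ δX b := fun b => by
    obtain ⟨n, -, hn⟩ := hf b
    omega
  have hsq : ∀ a : ↥(pullback f g), f (pullback.fst f g a) = g (pullback.snd f g a) := by
    intro a
    rw [← Scheme.Hom.comp_apply, ← Scheme.Hom.comp_apply, pullback.condition]
  -- the terms of the left hand side
  have hF : ∀ a : ↥(pullback f g), pullback.snd f g a = y' →
      α' a * ((AlgebraicCycle.mapCoeff (pullback.snd f g) δX' δY' a : ℕ) : ℤ) =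
      if δX' a = δX (pullback.fst f g a) + c ∧ δX' a = δY' y' then
        α (pullback.fst f g a) * ((fibLen (pullback.fst f g) a : ℕ) : ℤ) *
          (((pullback.snd f g).residueDegree a : ℕ) : ℤ) else 0 := by
    intro a ha
    have e1 : α' a = if δX' a = δX (pullback.fst f g a) + c then
        α (pullback.fst f g a) * ((fibLen (pullback.fst f g) a : ℕ) : ℤ) else 0 := by
      rw [hα']
      rfl
    have e2 : AlgebraicCycle.mapCoeff (pullback.snd f g) δX' δY' a =
        if δX' a = δY' y' then (pullback.snd f g).residueDegree a else 0 := by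
      rw [mapCoeff_eq, ha]
    rw [e1, e2]
    by_cases h1 : δX' a = δX (pullback.fst f g a) + c
    · by_cases h2 : δX' a = δY' y'
      · rw [if_pos h1, if_pos h2, if_pos ⟨h1, h2⟩]
      · have hn : ¬ (δX' a = δX (pullback.fst f g a) + c ∧ δX' a = δY' y') := fun h => h2 h.2
        rw [if_neg h2, if_neg hn, Nat.cast_zero, mul_zero]
    · have hn : ¬ (δX' a = δX (pullback.fst f g a) + c ∧ δX' a = δY' y') := fun h => h1 h.1
      rw [if_neg h1, if_neg hn, zero_mul]
  change (∑ᶠ a ∈ (pullback.snd f g) ⁻¹' {y'},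
    α' a * ((AlgebraicCycle.mapCoeff (pullback.snd f g) δX' δY' a : ℕ) : ℤ)) = _
  rcases hdich with ⟨hδ, hmax⟩ | hlt
  swap
  · -- the degenerate case
    have hR : Cyc.pullFun g δY' δY c ⇑(AlgebraicCycle.map f δX δY α) y' = 0 := by
      unfold Cyc.pullFun
      rw [if_neg (ne_of_lt hlt)]
    rw [hR]
    apply finsum_mem_eq_zero_of_forall_eq_zero
    intro a ha
    have ha' : pullback.snd f g a = y' := ha
    rw [hF a ha', if_neg]
    rintro ⟨h1, h2⟩
    have h3 := hfδ (pullback.fst f g a)
    rw [hsq a, ha'] at h3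
    omega
  · have hR : Cyc.pullFun g δY' δY c ⇑(AlgebraicCycle.map f δX δY α) y' =
        (∑ᶠ b ∈ f ⁻¹' {g y'}, α b * ((AlgebraicCycle.mapCoeff f δX δY b : ℕ) : ℤ)) *
          ((fibLen g y' : ℕ) : ℤ) := by
      unfold Cyc.pullFun
      rw [if_pos hδ]
      rfl
    rw [hR]
    -- finiteness
    obtain ⟨U, ⟨hUo, hUc⟩, hyU, -⟩ :=
      (PrespectralSpace.isTopologicalBasis (X := Y)).exists_subset_of_mem_open
        (Set.mem_univ (g y')) isOpen_univ
    have hT : IsCompact (f ⁻¹' U) := f.isSpectralMap.2 hUo hUc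
    have hfinJ : (f ⁻¹' U ∩ Function.support α).Finite :=
      α.locallyFiniteSupport.finite_inter_support_of_isCompact hT
    set S₁ : Set X := {b | f b = g y' ∧ α b ≠ 0 ∧ δX b = δY (f b)} with hS₁
    have hS₁fin : S₁.Finite := by
      refine hfinJ.subset ?_
      rintro b ⟨hb1, hb2, -⟩
      refine ⟨?_, hb2⟩
      show f b ∈ U
      rw [hb1]
      exact hyU
    have hkey : ∀ b : X, f b = g y' → δX b = δY (f b) →
        (fibT f g b y').Finite ∧
        (∀ a ∈ fibT f g b y', (pullback.snd f g).residueDegree a ≠ 0) ∧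
        ∑ᶠ a ∈ fibT f g b y',
          (fibLen (pullback.fst f g) a * (pullback.snd f g).residueDegree a : ℕ) =
          f.residueDegree b * fibLen g y' := by
      intro b hb hδb
      exact key_count f g b y' hb (finite_of_delta_eq f δX δY hf b hδb) hmax
    let F : ↥(pullback f g) → ℤ := fun a =>
      α' a * ((AlgebraicCycle.mapCoeff (pullback.snd f g) δX' δY' a : ℕ) : ℤ)
    let G : ↥(pullback f g) → ℤ := Set.indicator ((pullback.snd f g) ⁻¹' {y'}) F
    have hGne : ∀ a, G a ≠ 0 → pullback.snd f g a = y' ∧ α (pullback.fst f g a) ≠ 0 ∧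
        δX' a = δX (pullback.fst f g a) + c ∧ δX' a = δY' y' := by
      intro a hne
      have hmem : a ∈ (pullback.snd f g) ⁻¹' {y'} := by
        by_contra hn
        exact hne (Set.indicator_of_notMem hn F)
      have hGa : G a = F a := Set.indicator_of_mem hmem F
      rw [hGa] at hne
      have hFa : F a = _ := hF a hmem
      rw [hFa] at hne
      by_cases hc : δX' a = δX (pullback.fst f g a) + c ∧ δX' a = δY' y'
      · rw [if_pos hc] at hne
        refine ⟨hmem, ?_, hc.1, hc.2⟩
        intro h0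
        apply hne
        rw [h0, zero_mul, zero_mul]
      · rw [if_neg hc] at hne
        exact (hne rfl).elim
    have hGsupp : Function.support G ⊆ ⋃ b ∈ S₁, fibT f g b y' := by
      intro a ha
      obtain ⟨h1, h2, h3, h4⟩ := hGne a ha
      have hfb : f (pullback.fst f g a) = g y' := by rw [hsq a, h1]
      have hδb : δX (pullback.fst f g a) = δY (f (pullback.fst f g a)) := by
        rw [hfb]
        omega
      rw [Set.mem_iUnion₂]
      exact ⟨pullback.fst f g a, ⟨hfb, h2, hδb⟩, rfl, h1⟩
    have hGfin : (Function.support G).Finite := by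
      refine Set.Finite.subset (Set.Finite.biUnion hS₁fin ?_) hGsupp
      rintro b ⟨hb1, -, hb3⟩
      exact (hkey b hb1 hb3).1
    rw [finsum_mem_def]
    change ∑ᶠ a, G a = _
    rw [← finsum_fiberwise' (fun a => pullback.fst f g a) G hGfin]
    have hinner : ∀ b : X, ∑ᶠ a ∈ (fun a => pullback.fst f g a) ⁻¹' {b}, G a =
        Set.indicator (f ⁻¹' {g y'})
          (fun b => α b * ((AlgebraicCycle.mapCoeff f δX δY b : ℕ) : ℤ) *
            ((fibLen g y' : ℕ) : ℤ)) b := by
      intro b
      by_cases hb : f b = g y'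
      swap
      · rw [Set.indicator_of_notMem (show b ∉ f ⁻¹' {g y'} from hb)]
        apply finsum_mem_eq_zero_of_forall_eq_zero
        intro a ha
        have ha' : pullback.fst f g a = b := ha
        by_contra hne
        apply hb
        rw [← ha', hsq a, (hGne a hne).1]
      rw [Set.indicator_of_mem (show b ∈ f ⁻¹' {g y'} from hb)]
      by_cases hδb : δX b = δY (f b)
      swap
      · have hm : AlgebraicCycle.mapCoeff f δX δY b = 0 := by
          rw [mapCoeff_eq, if_neg hδb]
        rw [hm, Nat.cast_zero, mul_zero, zero_mul]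
        apply finsum_mem_eq_zero_of_forall_eq_zero
        intro a ha
        have ha' : pullback.fst f g a = b := ha
        by_contra hne
        obtain ⟨h1, h2, h3, h4⟩ := hGne a hne
        apply hδb
        rw [ha'] at h3
        rw [hb]
        omega
      · obtain ⟨k1, k2, k3⟩ := hkey b hb hδb
        have hm : AlgebraicCycle.mapCoeff f δX δY b = f.residueDegree b := by
          rw [mapCoeff_eq, if_pos hδb]
        rw [hm]
        have hGa : ∀ a ∈ fibT f g b y', G a = α b *
            (((fibLen (pullback.fst f g) a * (pullback.snd f g).residueDegree a : ℕ)) : ℤ) := by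
          rintro a ⟨ha1, ha2⟩
          have hmem : a ∈ (pullback.snd f g) ⁻¹' {y'} := ha2
          have hG1 : G a = F a := Set.indicator_of_mem hmem F
          have hFa : F a = _ := hF a ha2
          rw [hG1, hFa]
          have hd1 : δX' a = δY' y' := by
            have := delta_eq_of_residueDegree_ne_zero (pullback.snd f g) δX' δY' hX' a
              (k2 a ⟨ha1, ha2⟩)
            rw [this, ha2]
          have hd2 : δX' a = δX (pullback.fst f g a) + c := by
            rw [ha1, hd1, hδ, hδb, hb]
          rw [if_pos ⟨hd2, hd1⟩, ha1, Nat.cast_mul, mul_assoc]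
        have e1 : ∑ᶠ a ∈ (fun a => pullback.fst f g a) ⁻¹' {b}, G a =
            ∑ᶠ a ∈ fibT f g b y', G a := by
          apply finsum_mem_inter_support_eq
          ext a
          constructor
          · rintro ⟨ha, has⟩
            exact ⟨⟨ha, (hGne a has).1⟩, has⟩
          · rintro ⟨ha, has⟩
            exact ⟨ha.1, has⟩
        rw [e1, finsum_mem_congr rfl hGa, ← mul_finsum_mem, ← Nat.cast_finsum_mem k1, k3,
          Nat.cast_mul, mul_assoc]
    rw [finsum_congr hinner, ← finsum_mem_def, finsum_mem_mul]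

/-- flat pullback (relative dimension `r`) commutes with proper pushforward of cycles -/
theorem S1858_main (X Y Y' : Scheme.{u}) (f : X ⟶ Y) (g : Y' ⟶ Y) [IsProper f] [Flat g]
    [LocallyOfFiniteType g] (δX : X → ℤ) (δY : Y → ℤ) (δY' : Y' → ℤ)
    (δX' : ↥(pullback f g) → ℤ) (r : ℕ) (hr : Cyc.HasRelDim g r) (hY' : Cyc.IsSetup Y' δY')
    (hf : Cyc.DeltaCompat f δX δY) (hg : Cyc.DeltaCompat g δY' δY)
    (hX' : Cyc.DeltaCompat (pullback.snd f g) δX' δY') (α : AlgebraicCycle X ℤ)
    (α' : AlgebraicCycle (pullback f g) ℤ)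
    (hα' : ⇑α' = Cyc.pullFun (pullback.fst f g) δX' δX r ⇑α) :
    ⇑(AlgebraicCycle.map (pullback.snd f g) δX' δY' α') =
      Cyc.pullFun g δY' δY r ⇑(AlgebraicCycle.map f δX δY α) := by
  haveI := hY'.1
  funext y'
  refine core f g δX δY δY' δX' hf hX' (r : ℤ) α α' hα' y' ?_
  have h1 := delta_eq_of_deltaCompat g δY' δY hg y'
  have h2 := tr_le_of_hasRelDim g r hr y'
  by_cases h3 : tr g y' = r
  · left
    refine ⟨by rw [h1, h3], ?_⟩
    intro z hz hsp
    by_contra hne
    have h4 := tr_lt_of_specializes g z y' hsp hne hz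
    have h5 := tr_le_of_hasRelDim g r hr z
    omega
  · right
    rw [h1]
    have h6 : tr g y' < r := lt_of_le_of_ne h2 h3
    omega

/-- flat base change (shift `c`) commutes with proper pushforward of cycles -/
theorem S1941_main (X X' Y : Scheme.{u}) (f : Y ⟶ X) (p : X' ⟶ X) [IsProper f] [Flat p]
    (δ : X → ℤ) (δ' : X' → ℤ) (δY : Y → ℤ) (δY' : ↥(pullback f p) → ℤ)
    (hX' : Cyc.IsSetup X' δ') (hf : Cyc.DeltaCompat f δY δ)
    (hf' : Cyc.DeltaCompat (pullback.snd f p) δY' δ') (c : ℤ)
    (hc : ∀ x' : X', (∀ y, p y = p x' → y ⤳ x' → y = x') → δ' x' = δ (p x') + c)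
    (α : AlgebraicCycle Y ℤ) (α' : AlgebraicCycle (pullback f p) ℤ)
    (hα' : ⇑α' = Cyc.pullFun (pullback.fst f p) δY' δY c ⇑α) :
    Cyc.pullFun p δ' δ c ⇑(AlgebraicCycle.map f δY δ α) =
      ⇑(AlgebraicCycle.map (pullback.snd f p) δY' δ' α') := by
  haveI := hX'.1
  funext x'
  symm
  refine core f p δY δ δ' δY' hf hf' c α α' hα' x' ?_
  obtain ⟨z, hsp, hz, hmax⟩ := exists_fibreMax_ge p x'
  have h1 := hc z hmax
  rw [hz] at h1
  by_cases hne : z = x'
  · subst hne
    left
    exact ⟨h1, hmax⟩
  · right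
    have h2 := (hX'.2.2 z x' hsp hne).1
    omega

end BC

end Groth.Agent.Helper7.FibProd
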